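import Groth.Agent.Lib.GalCd.PtSupp
import Mathlib.AlgebraicGeometry.AlgClosed.Basic
import Mathlib.FieldTheory.PurelyInseparable.Basic

/-!
# Sheaves on curves over separably closed fields supported at closed points
-/

set_option autoImplicit false
set_option backward.isDefEq.respectTransparency false
set_option backward.isDefEq.respectTransparency.types false
set_option linter.style.haveILetI false

universe u

open CategoryTheory CategoryTheory.Limits CategoryTheory.Abelian AlgebraicGeometry Opposite
open GrothLib.EtSite GrothLib.EtColim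

noncomputable section

namespace GrothLib.CurveSupp9

variable {X : Scheme.{u}}

/-- In dimension at most one a point which is not closed has no proper generalisation. -/
theorem maximal_of_not_isClosed (hdim : topologicalKrullDim X ≤ 1) (x : X)
    (hx : ¬ IsClosed ({x} : Set X)) (y : X) (hy : y ⤳ x) : y = x := by
  by_contra hne
  obtain ⟨z, hz, hzx⟩ : ∃ z, x ⤳ z ∧ z ≠ x := by
    by_contra h
    push Not at h
    refine hx ?_
    rw [← closure_eq_iff_isClosed]
    exact Set.Subset.antisymm (fun w hw => h w (specializes_iff_mem_closure.2 hw)) subset_closure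
  let C : X → TopologicalSpace.IrreducibleCloseds X := fun w =>
    ⟨closure {w}, isIrreducible_singleton.closure, isClosed_closure⟩
  have hlt : ∀ {a b : X}, a ⤳ b → b ≠ a → C b < C a := fun {a b} hab hba => by
    refine lt_of_le_of_ne (specializes_iff_closure_subset.1 hab) fun e => hba ?_
    have e' : closure ({b} : Set X) = closure {a} := congrArg SetLike.coe e
    exact IsGenericPoint.eq (S := closure ({a} : Set X)) e' rfl
  let c : LTSeries (TopologicalSpace.IrreducibleCloseds X) :=
    ((RelSeries.singleton _ (C z)).snoc (C x) (hlt hz hzx)).snoc (C y)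
      (by simpa using hlt hy (Ne.symm hne))
  have := (Order.LTSeries.length_le_krullDim c).trans hdim
  simp [c] at this

/-- Closed points of a scheme of finite type over a separably closed field have separably closed residue fields. -/
theorem isSepClosed_residueField {k : Type u} [Field k] [IsSepClosed k]
    (f : X ⟶ Spec (CommRingCat.of k)) [LocallyOfFiniteType f] (x : X) (hx : IsClosed ({x} : Set X)) :
    IsSepClosed (X.residueField x) := by
  have : IsFinite (X.fromSpecResidueField x ≫ f) := by
    rw [isClosed_singleton_iff_isClosedImmersion] at hx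
    rw [isFinite_iff_locallyOfFiniteType_of_jacobsonSpace]
    infer_instance
  let φ := Spec.preimage (X.fromSpecResidueField x ≫ f)
  have hφ : φ.hom.IsIntegral := by
    rw [← IsIntegralHom.SpecMap_iff, Spec.map_preimage]
    infer_instance
  letI : Algebra k (X.residueField x) := φ.hom.toAlgebra
  haveI : Algebra.IsIntegral k (X.residueField x) := ⟨hφ⟩
  exact Algebra.IsAlgebraic.isSepClosed (F := k)

/-- A sheaf whose stalks vanish at the geometric points over non-closed points. -/
def IsPtSupp (Q : EtCoh.Ab X) : Prop :=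
  ∀ (Ω : Type u) [Field Ω] [IsSepClosed Ω] (ξ : Spec (CommRingCat.of Ω) ⟶ X),
    ¬ IsClosed ({ξ.base (default : Spec (CommRingCat.of Ω))} : Set X) → IsZero ((EtCoh.stalk ξ).obj Q)

variable [AlgebraicGeometry.IsNoetherian X]

theorem comp_eq_zero (hsep : ∀ x : X, IsClosed ({x} : Set X) → IsSepClosed (X.residueField x))
    {Q : EtCoh.Ab X} (hQ : IsPtSupp Q) (q : ℕ) (hq : 1 ≤ q) (x : EtCoh.H X Q q) : x = 0 :=
  GrothLib.GalCd.H_eq_zero_of_supp_closedPts hsep Q hQ q hq x

/-- A monomorphism with cokernel supported at closed points is surjective on cohomology in degrees at least one, and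
injective in degrees at least two. -/
theorem bijective_of_mono (hsep : ∀ x : X, IsClosed ({x} : Set X) → IsSepClosed (X.residueField x))
    {F G : EtCoh.Ab X} (φ : F ⟶ G) [Mono φ] (hQ : IsPtSupp (cokernel φ)) (q : ℕ) (hq : 1 < q) :
    Function.Bijective fun x : EtCoh.H X F q => Ext.comp x (Ext.mk₀ φ) (add_zero q) := by
  have hS : (ShortComplex.mk φ (cokernel.π φ) (cokernel.condition φ)).ShortExact :=
    { exact := ShortComplex.exact_of_g_is_cokernel _ (cokernelIsCokernel φ) }
  refine ⟨fun a b hab => sub_eq_zero.1 ?_, fun b => ?_⟩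
  · obtain ⟨r, rfl⟩ : ∃ r, q = r + 1 := ⟨q - 1, by omega⟩
    have h0 : Ext.comp (a - b) (Ext.mk₀ φ) (add_zero (r + 1)) = 0 := by
      rw [sub_eq_add_neg, Ext.add_comp, Ext.neg_comp, ← sub_eq_add_neg]; exact sub_eq_zero.2 hab
    obtain ⟨w, hw⟩ := Ext.covariant_sequence_exact₁ _ hS (a - b) h0 rfl
    rw [← hw, comp_eq_zero hsep hQ r (by omega) w, Ext.zero_comp]
  · obtain ⟨a, ha⟩ := Ext.covariant_sequence_exact₂ _ hS b (comp_eq_zero hsep hQ q hq.le _)
    exact ⟨a, ha⟩

/-- An epimorphism with kernel supported at closed points is bijective on cohomology in positive degrees. -/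
theorem bijective_of_epi (hsep : ∀ x : X, IsClosed ({x} : Set X) → IsSepClosed (X.residueField x))
    {F G : EtCoh.Ab X} (φ : F ⟶ G) [Epi φ] (hK : IsPtSupp (kernel φ)) (q : ℕ) (hq : 1 ≤ q) :
    Function.Bijective fun x : EtCoh.H X F q => Ext.comp x (Ext.mk₀ φ) (add_zero q) := by
  have hS : (ShortComplex.mk (kernel.ι φ) φ (kernel.condition φ)).ShortExact :=
    { exact := ShortComplex.exact_of_f_is_kernel _ (kernelIsKernel φ) }
  refine ⟨fun a b hab => sub_eq_zero.1 ?_, fun b => ?_⟩
  · obtain ⟨w, hw⟩ := Ext.covariant_sequence_exact₂ _ hS (a - b) (by rw [sub_eq_add_neg, Ext.add_comp, Ext.neg_comp, ← sub_eq_add_neg]; exact sub_eq_zero.2 hab)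
    rw [← hw, comp_eq_zero hsep hK q hq w, Ext.zero_comp]
  · obtain ⟨a, ha⟩ := Ext.covariant_sequence_exact₃ _ hS b rfl (comp_eq_zero hsep hK (q + 1) (by omega) _)
    exact ⟨a, ha⟩

omit [AlgebraicGeometry.IsNoetherian X] in
theorem isPtSupp_kernel {F G : EtCoh.Ab X} (φ : F ⟶ G)
    (h : ∀ (Ω : Type u) [Field Ω] [IsSepClosed Ω] (ξ : Spec (CommRingCat.of Ω) ⟶ X),
      ¬ IsClosed ({ξ.base (default : Spec (CommRingCat.of Ω))} : Set X) → IsIso ((EtCoh.stalk ξ).map φ)) :
    IsPtSupp (kernel φ) := fun Ω _ _ ξ hξ => by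
  haveI := h Ω ξ hξ
  exact IsZero.of_iso (isZero_kernel_of_mono ((EtCoh.stalk ξ).map φ)) (PreservesKernel.iso (EtCoh.stalk ξ) φ)

omit [AlgebraicGeometry.IsNoetherian X] in
theorem isPtSupp_cokernel {F G : EtCoh.Ab X} (φ : F ⟶ G)
    (h : ∀ (Ω : Type u) [Field Ω] [IsSepClosed Ω] (ξ : Spec (CommRingCat.of Ω) ⟶ X),
      ¬ IsClosed ({ξ.base (default : Spec (CommRingCat.of Ω))} : Set X) → IsIso ((EtCoh.stalk ξ).map φ)) :
    IsPtSupp (cokernel φ) := fun Ω _ _ ξ hξ => by
  haveI := h Ω ξ hξ
  exact IsZero.of_iso (isZero_cokernel_of_epi ((EtCoh.stalk ξ).map φ)) (PreservesCokernel.iso (EtCoh.stalk ξ) φ)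

end GrothLib.CurveSupp9
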